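import Groth.Prelude.Def_W4c2ratsingkovacsGH
import Mathlib.AlgebraicGeometry.ProjectiveSpectrum.Scheme
import Mathlib.RingTheory.GradedAlgebra.Radical
import Mathlib.RingTheory.Ideal.KrullsHeightTheorem
import Mathlib.RingTheory.Ideal.MinimalPrime.Noetherian

/-!
# Geometric height via the homogeneous spectrum, and homogeneous avoidance
-/

set_option autoImplicit false

universe u v

open AlgebraicGeometry AlgebraicGeometry.ProjIsoSpecTopComponent Order

namespace Groth.Agent.H1GeomHt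

variable {R : Type u} {A : Type v} [CommRing R] [CommRing A] [Algebra R A] {𝒜 : ℕ → Submodule R A} [GradedRing 𝒜]

theorem exists_pos_notMem {I : Ideal A} (h : ¬ (HomogeneousIdeal.irrelevant 𝒜).toIdeal ≤ I) :
    ∃ (d : ℕ) (f : A), 0 < d ∧ f ∈ 𝒜 d ∧ f ∉ I := by
  by_contra! H
  refine h ?_
  rw [HomogeneousIdeal.irrelevant_eq_span, Ideal.span_le]
  simp only [Set.iUnion_subset_iff]
  exact fun i hi a ha ↦ H i a hi ha

/-- Homogeneous prime avoidance inside a homogeneous ideal. -/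
theorem exists_avoid {J : Ideal A} (hJ : J.IsHomogeneous 𝒜) (S : Finset (Ideal A))
    (hS : ∀ P ∈ S, P.IsPrime ∧ P.IsHomogeneous 𝒜 ∧ ¬ J ≤ P ∧ ¬ (HomogeneousIdeal.irrelevant 𝒜).toIdeal ≤ P) :
    ∃ (e : ℕ) (z : A), 0 < e ∧ z ∈ 𝒜 e ∧ z ∈ J ∧ ∀ P ∈ S, z ∉ P := by
  classical
  have hh : ∀ P ∈ S, ∃ (e : ℕ) (h : A), 0 < e ∧ h ∈ 𝒜 e ∧ h ∈ J ∧ h ∉ P := by
    intro P hP
    obtain ⟨hp, -, hJP, hirr⟩ := hS P hP
    obtain ⟨d, f, hd, hf, hfP⟩ := exists_pos_notMem hirr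
    obtain ⟨a, haJ, haP⟩ := SetLike.not_le_iff_exists.1 hJP
    obtain ⟨i, hi⟩ : ∃ i, (DirectSum.decompose 𝒜 a i : A) ∉ P := by
      by_contra hc
      push Not at hc
      exact haP (DirectSum.sum_support_decompose 𝒜 a ▸ Ideal.sum_mem _ fun i _ => hc i)
    exact ⟨i + d, (DirectSum.decompose 𝒜 a i : A) * f, by omega, SetLike.mul_mem_graded (SetLike.coe_mem _) hf,
      J.mul_mem_right _ (hJ i haJ), fun h => (hp.mem_or_mem h).elim hi hfP⟩
  suffices ∀ T ⊆ S, ∃ (e : ℕ) (z : A), 0 < e ∧ z ∈ 𝒜 e ∧ z ∈ J ∧ ∀ P ∈ T, z ∉ P from this S subset_rfl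
  intro T
  induction T using Finset.strongInduction with
  | H T ih =>
    intro hTS
    rcases T.eq_empty_or_nonempty with rfl | hne
    · exact ⟨1, 0, one_pos, zero_mem _, J.zero_mem, by simp⟩
    obtain ⟨P, hPT, hmin⟩ := T.exists_minimal hne
    obtain ⟨hPp, -, -, -⟩ := hS P (hTS hPT)
    obtain ⟨ef, f, hef, hf, hfJ, hfav⟩ := ih (T.erase P) (Finset.erase_ssubset hPT) ((Finset.erase_subset _ _).trans hTS)
    by_cases hfP : f ∈ P
    swap
    · refine ⟨ef, f, hef, hf, hfJ, fun Q hQ => ?_⟩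
      rcases eq_or_ne Q P with rfl | hQP
      exacts [hfP, hfav Q (Finset.mem_erase.2 ⟨hQP, hQ⟩)]
    have hg0 : ∀ U ⊆ T.erase P, ∃ (e : ℕ) (g : A), g ∈ 𝒜 e ∧ g ∉ P ∧ ∀ Q ∈ U, g ∈ Q := by
      intro U
      induction U using Finset.induction_on with
      | empty => intro _; exact ⟨0, 1, SetLike.one_mem_graded 𝒜, fun h => hPp.ne_top ((Ideal.eq_top_iff_one P).2 h), by simp⟩
      | @insert Q U _ ihU =>
        intro hU
        obtain ⟨e, g, hg, hgP, hgU⟩ := ihU ((Finset.subset_insert _ _).trans hU)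
        obtain ⟨hQP, hQT⟩ := Finset.mem_erase.1 (hU (Finset.mem_insert_self Q U))
        obtain ⟨r, hrQ, hrP⟩ := SetLike.not_le_iff_exists.1 (fun h => hQP (le_antisymm h (hmin hQT h)))
        obtain ⟨i, hi⟩ : ∃ i, (DirectSum.decompose 𝒜 r i : A) ∉ P := by
          by_contra hc
          push Not at hc
          exact hrP (DirectSum.sum_support_decompose 𝒜 r ▸ Ideal.sum_mem _ fun i _ => hc i)
        refine ⟨e + i, g * (DirectSum.decompose 𝒜 r i : A), SetLike.mul_mem_graded hg (SetLike.coe_mem _),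
          fun h => (hPp.mem_or_mem h).elim hgP hi, fun Q' hQ' => ?_⟩
        rcases Finset.mem_insert.1 hQ' with rfl | hQ'
        · exact Ideal.mul_mem_left _ _ ((hS Q' (hTS hQT)).2.1 i hrQ)
        · exact Ideal.mul_mem_right _ _ (hgU Q' hQ')
    obtain ⟨e0, g0, hg0', hg0P, hg0Q⟩ := hg0 _ subset_rfl
    obtain ⟨eh, h, heh, hh', hhJ, hhP⟩ := hh P (hTS hPT)
    have hg : g0 * h ∈ 𝒜 (e0 + eh) := SetLike.mul_mem_graded hg0' hh'
    have hgP : g0 * h ∉ P := fun hc => (hPp.mem_or_mem hc).elim hg0P hhP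
    refine ⟨(e0 + eh) * ef, f ^ (e0 + eh) + (g0 * h) ^ ef, mul_pos (by omega) hef, add_mem ?_ ?_,
      J.add_mem (J.pow_mem_of_mem hfJ _ (by omega)) (J.pow_mem_of_mem (J.mul_mem_left _ hhJ) _ hef), fun Q hQ hmem => ?_⟩
    · simpa using SetLike.pow_mem_graded (e0 + eh) hf
    · simpa [mul_comm] using SetLike.pow_mem_graded ef hg
    · rcases eq_or_ne Q P with rfl | hQP
      · exact hgP (hPp.mem_of_pow_mem _ ((Ideal.add_mem_iff_right _ (Ideal.pow_mem_of_mem _ hfP _ (by omega))).1 hmem))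
      · have hQ' := Finset.mem_erase.2 ⟨hQP, hQ⟩
        exact hfav Q hQ' ((hS Q (hTS hQ)).1.mem_of_pow_mem _
          ((Ideal.add_mem_iff_left _ (Ideal.pow_mem_of_mem _ (Ideal.mul_mem_right _ _ (hg0Q Q hQ')) _ hef)).1 hmem))

/-- A minimal prime of a homogeneous ideal is homogeneous. -/
theorem isHomogeneous_of_minimal {I : Ideal A} (hI : I.IsHomogeneous 𝒜) {p : Ideal A} (hp : p ∈ I.minimalPrimes) :
    p.IsHomogeneous 𝒜 := by
  have hle : (p.homogeneousCore 𝒜).toIdeal ≤ p := p.toIdeal_homogeneousCore_le 𝒜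
  have hI' : I ≤ (p.homogeneousCore 𝒜).toIdeal := by
    rw [← hI.toIdeal_homogeneousCore_eq_self]
    exact Ideal.homogeneousCore_mono 𝒜 hp.1.2
  have he : p = (p.homogeneousCore 𝒜).toIdeal :=
    le_antisymm (hp.2 ⟨hp.1.1.homogeneousCore, hI'⟩ hle) hle
  rw [he]
  exact (p.homogeneousCore 𝒜).isHomogeneous

/-- The chart map. -/
noncomputable def toS (f : A) (x : {x // x ∈ ProjectiveSpectrum.basicOpen 𝒜 f}) :
    PrimeSpectrum (HomogeneousLocalization.Away 𝒜 f) := ToSpec.toFun f x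

/-- The inverse chart map. -/
noncomputable def fromS {f : A} {n : ℕ} (hf : f ∈ 𝒜 n) (hn : 0 < n)
    (q : PrimeSpectrum (HomogeneousLocalization.Away 𝒜 f)) : {x // x ∈ ProjectiveSpectrum.basicOpen 𝒜 f} :=
  FromSpec.toFun hf hn q

/-- The height of a point of `D₊(f)` in `Spec A_(f)` is its height in the homogeneous spectrum. -/
theorem height_toSpec {f : A} {n : ℕ} (hf : f ∈ 𝒜 n) (hn : 0 < n)
    (x : {x // x ∈ ProjectiveSpectrum.basicOpen 𝒜 f}) :
    height (toS f x) = height x.1 := by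
  have hmono : StrictMono (fun y : {x // x ∈ ProjectiveSpectrum.basicOpen 𝒜 f} => toS f y) := by
    intro a b hab
    refine lt_of_le_of_ne (Ideal.comap_mono (Ideal.map_mono hab.le)) fun h => hab.ne ?_
    have := congrArg (fromS hf hn) h
    exact ((fromSpec_toSpec 𝒜 hf hn a).symm.trans this).trans (fromSpec_toSpec 𝒜 hf hn b)
  have h1 : height x = height (toS f x) := by
    refine height_eq_of_strictMono _ hmono (fun a q hq => ?_) x
    refine ⟨fromS hf hn q, ?_, toSpec_fromSpec 𝒜 hf hn q⟩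
    refine lt_of_le_of_ne ?_ fun h => hq.ne (by rw [← h]; exact (toSpec_fromSpec 𝒜 hf hn q).symm)
    intro z hz
    rw [show a = fromS hf hn (toS f a) from (fromSpec_toSpec 𝒜 hf hn a).symm]
    exact fun i => hq.le (hz i)
  have h2 : height x = height x.1 := height_eq_of_strictMono Subtype.val (fun _ _ h => h)
    (fun a b hb => ⟨⟨b, fun hc => (ProjectiveSpectrum.mem_basicOpen 𝒜 f a.1).1 a.2 (hb.le hc)⟩, hb, rfl⟩) x
  rw [← h1, h2]

variable (𝒜) in
theorem locIdeal_le_toSpec {J : Ideal A} {f : A} (x : {x // x ∈ ProjectiveSpectrum.basicOpen 𝒜 f})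
    (hJ : J ≤ x.1.asHomogeneousIdeal.toIdeal) :
    W4c2ratsingkovacs.locIdeal 𝒜 J f ≤ (toS f x).asIdeal :=
  Ideal.comap_mono (Ideal.map_mono hJ)

theorem geomHeight_le {J : Ideal A} {f : A} {n : ℕ} (hf : f ∈ 𝒜 n) (hn : 0 < n)
    (x : ProjectiveSpectrum 𝒜) (hfx : f ∉ x.asHomogeneousIdeal) (hJ : J ≤ x.asHomogeneousIdeal.toIdeal) :
    W4c2ratsingkovacs.geomHeight 𝒜 J f ≤ height x := by
  refine (Ideal.height_mono (locIdeal_le_toSpec 𝒜 ⟨x, hfx⟩ hJ)).trans (le_of_eq ?_)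
  rw [PrimeSpectrum.height_eq_orderHeight, height_toSpec hf hn]

theorem le_geomHeight {J : Ideal A} (hJh : J.IsHomogeneous 𝒜) {f : A} {n : ℕ} (hf : f ∈ 𝒜 n) (hn : 0 < n) (c : ℕ∞)
    (h : ∀ x : ProjectiveSpectrum 𝒜, J ≤ x.asHomogeneousIdeal.toIdeal → c ≤ height x) :
    c ≤ W4c2ratsingkovacs.geomHeight 𝒜 J f := by
  rw [W4c2ratsingkovacs.geomHeight, Ideal.height_eq_inf_minimalPrimes]
  refine le_iInf₂ fun q hq => ?_
  haveI := hq.1.1
  have e : (⟨q, hq.1.1⟩ : PrimeSpectrum _) = toS f (fromS hf hn ⟨q, hq.1.1⟩) :=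
    (toSpec_fromSpec 𝒜 hf hn ⟨q, hq.1.1⟩).symm
  rw [show q.height = height (⟨q, hq.1.1⟩ : PrimeSpectrum _) from PrimeSpectrum.height_eq_orderHeight ⟨q, hq.1.1⟩, e,
    height_toSpec hf hn]
  refine h _ ?_
  classical
  intro a ha
  rw [← DirectSum.sum_support_decompose 𝒜 a]
  refine Ideal.sum_mem _ fun i _ => ?_
  refine (FromSpec.mem_carrier_iff_of_mem hf hn _ _ (SetLike.coe_mem _)).2 (hq.1.2 ?_)
  rw [W4c2ratsingkovacs.locIdeal, Ideal.mem_comap, HomogeneousLocalization.algebraMap_apply, HomogeneousLocalization.val_mk,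
    Localization.mk_eq_mk', IsLocalization.mk'_eq_mul_mk'_one]
  exact Ideal.mul_mem_right _ _ (Ideal.mem_map_of_mem _ (J.pow_mem_of_mem (hJh i ha) _ hn))

theorem height_le_idealHeight (x : ProjectiveSpectrum 𝒜) : height x ≤ x.asHomogeneousIdeal.toIdeal.height := by
  rw [show x.asHomogeneousIdeal.toIdeal.height = height (⟨_, x.isPrime⟩ : PrimeSpectrum A) from
    PrimeSpectrum.height_eq_orderHeight ⟨_, x.isPrime⟩]
  exact height_le_height_apply_of_strictMono (fun y : ProjectiveSpectrum 𝒜 => (⟨y.asHomogeneousIdeal.toIdeal, y.isPrime⟩ : PrimeSpectrum A))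
    (fun a b hab => lt_of_le_of_ne hab.le fun h => hab.ne (ProjectiveSpectrum.ext (HomogeneousIdeal.toIdeal_injective (congrArg PrimeSpectrum.asIdeal h)))) x

/-- Points above a homogeneous ideal avoiding `f`. -/
theorem exists_point {J : Ideal A} (hJ : J.IsHomogeneous 𝒜) {f : A} {n : ℕ} (hf : f ∈ 𝒜 n) (hn : 0 < n)
    (hfJ : f ∉ J.radical) :
    ∃ x : ProjectiveSpectrum 𝒜, f ∉ x.asHomogeneousIdeal ∧ x.asHomogeneousIdeal.toIdeal ∈ J.minimalPrimes := by
  rw [← Ideal.sInf_minimalPrimes, Submodule.mem_sInf] at hfJ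
  push Not at hfJ
  obtain ⟨p, hp, hfp⟩ := hfJ
  refine ⟨⟨⟨p, isHomogeneous_of_minimal hJ hp⟩, hp.1.1, fun h => hfp ?_⟩, hfp, hp⟩
  exact h (HomogeneousIdeal.mem_irrelevant_of_mem 𝒜 hn hf)

end Groth.Agent.H1GeomHt
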